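import Mathlib
import Cfsg.Agent.K.SigGood
import Cfsg.Agent.K.SigDelta

/-!
The balance property of the `k`-balanced signalizer functors on solvable groups, in abstract form.
-/

set_option autoImplicit false
set_option linter.unusedSectionVars false

namespace Cfsg.Agent.SigS

open Cfsg Subgroup Cfsg.Agent.K Solv.Ext Cfsg.Agent.PLocal Cfsg.Agent.PLocal.Amb
open scoped Pointwise commutatorElement IsMulCommutative

universe u

variable {A X : Type*} [Group A] [Group X] [MulDistribMulAction A X]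

/-- Abstract properties of the subgroups `Δ(B)`. -/
structure Dat (p : ℕ) (Δ : Subgroup A → Subgroup X) (D : Subgroup X) : Prop where
  he : ∀ a : A, a ^ p = 1
  nd : ¬ p ∣ Nat.card X
  hD : D = ⊥ ∨ D = Fx X (⊤ : Subgroup A)
  inv : ∀ B, Inv A (Δ B)
  le : ∀ B, Δ B ≤ Fx X B
  norm : ∀ B, Fx X B ≤ 𝐍[Δ B]
  anti : ∀ {B B'}, B ≤ B' → Δ B' ≤ Δ B
  bal : ∀ B B', B.index ∣ p ^ 2 → Δ B ⊓ Fx X B' ≤ Δ B' ⊔ D

/-- The subgroup generated by the `Δ(H) ∩ U` over the hyperplanes `H`. -/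
def YY (p : ℕ) (Δ : Subgroup A → Subgroup X) (U : Subgroup X) : Subgroup X :=
  ⨆ H : {H : Subgroup A // H.index ∣ p}, Δ H ⊓ U

variable [Finite A] [Finite X] [IsMulCommutative A] {p : ℕ} [hp : Fact p.Prime]
  {Δ : Subgroup A → Subgroup X} {D : Subgroup X}

theorem le_YY {H : Subgroup A} (hH : H.index ∣ p) (U : Subgroup X) : Δ H ⊓ U ≤ YY p Δ U :=
  le_iSup (fun H : {H : Subgroup A // H.index ∣ p} => Δ H ⊓ U) ⟨H, hH⟩

namespace Dat

variable (h : Dat p Δ D)
include h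

theorem cop (B : Subgroup A) (U : Subgroup X) : (Nat.card B).Coprime (Nat.card U) := by
  obtain ⟨k, hk⟩ := (Grp.isPGroup_of_pow_eq_one (N := B) fun a _ => h.he a).exists_card_eq
  exact hk ▸ (hp.out.coprime_iff_not_dvd.2 fun h1 =>
    h.nd (h1.trans (card_subgroup_dvd_card U))).pow_left k

theorem gen {U L : Subgroup X} (hU : Inv A U)
    (h1 : ∀ H : Subgroup A, H.index ∣ p → U ⊓ Fx X H ≤ L) : U ≤ L :=
  le_of_Fx_le h.he hU (fun h2 => h.nd (h2.trans (card_subgroup_dvd_card U))) h1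

theorem D_le (B : Subgroup A) : D ≤ Fx X B := by
  rcases h.hD with rfl | rfl
  exacts [bot_le, Fx_anti le_top]

theorem inv_D : Inv A D := inv_of_fixed fun a _ hx => mem_Fx.1 (h.D_le ⊤ hx) a trivial

theorem split {V : Subgroup X} (hV : Inv A V) {B : Subgroup A} (h1 : V ≤ Δ B ⊔ D) :
    V ≤ (Δ B ⊓ V) ⊔ (D ⊓ V) := by
  rcases h.hD with rfl | rfl
  · exact le_sup_of_le_left (le_inf (by rwa [sup_bot_eq] at h1) le_rfl)
  refine (comm_sup_fixedPoints hV (card_top (G := A) ▸ h.cop ⊤ V) (.inl inferInstance)).ge.trans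
    (sup_le_sup (le_inf (comm_le_iff.2 fun a g hg => ?_) hV.comm_le)
      fun x hx => ⟨mem_Fx.2 fun a _ => hx.2 a, hx.1⟩)
  have h2 := (Fx_anti le_top).trans (h.norm B)
  obtain ⟨d, hd, c, hc, rfl⟩ := (mem_sup_of_le_normalizer_left h2).1 (h1 hg)
  rw [smul_mul', mem_Fx.1 hc a trivial, show (d * c)⁻¹ * (a • d * c) = c⁻¹ * (d⁻¹ * a • d) * c by group]
  exact inv_conj_mem_of_mem_normalizer (h2 hc) (mul_mem (inv_mem hd) (h.inv B a d hd))

theorem le_St {U V : Subgroup X} (hV : Inv A V) (h1 : V ≤ U)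
    (h2 : ∀ H : Subgroup A, H.index ∣ p → V ⊓ Fx X H ≤ Δ H ⊔ D) : V ≤ YY p Δ U ⊔ D ⊓ U :=
  h.gen hV fun H hH => (h.split (hV.inf (inv_Fx H)) (h2 H hH)).trans (sup_le_sup
    ((inf_le_inf_left _ (inf_le_left.trans h1)).trans (le_YY hH U))
    (inf_le_inf_left _ (inf_le_left.trans h1)))

theorem inv_St {U : Subgroup X} (hU : Inv A U) : Inv A (YY p Δ U ⊔ D ⊓ U) :=
  (inv_iSup fun H : {H : Subgroup A // H.index ∣ p} => (h.inv H.1).inf hU).sup (h.inv_D.inf hU)

theorem St_inf {U : Subgroup X} {H : Subgroup A} (h1 : YY p Δ U ⊓ Fx X H ≤ Δ H ⊔ D) :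
    (YY p Δ U ⊔ D ⊓ U) ⊓ Fx X H ≤ Δ H ⊔ D := by
  rw [sup_comm, sup_inf_of_le_normalizer (inf_le_left.trans (h.D_le H))]
  · exact sup_le (le_sup_of_le_right inf_le_left) h1
  refine le_normalizer_iff_cj.2 fun g hg => ?_
  rw [YY, cj_iSup]
  exact iSup_mono fun H => (cj_of_mem_normalizer (le_normalizer_inf
    (inf_le_left.trans ((h.D_le _).trans (h.norm _))) (inf_le_right.trans le_normalizer) hg)).le

theorem sub {U : Subgroup X} [MulDistribMulAction A U] (hU : Inv A U)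
    (e : ∀ (a : A) (x : U), ((a • x : U) : X) = a • (x : X)) :
    (∀ B : Subgroup A, Fx U B = (Fx X B).subgroupOf U) ∧
      Dat p (fun B => (Δ B).subgroupOf U) (D.subgroupOf U) := by
  have h1 : ∀ B : Subgroup A, Fx U B = (Fx X B).subgroupOf U := fun B => Subgroup.ext fun x => by
    simp only [mem_subgroupOf, mem_Fx, Subtype.ext_iff, e]
  refine ⟨h1, h.he, fun h2 => h.nd (h2.trans (card_subgroup_dvd_card U)), h.hD.imp
    (fun h => by rw [h, bot_subgroupOf]) fun h => by rw [h, h1],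
    fun B => (h.inv B).comap fun a x => (e a x).symm, fun B => h1 B ▸ comap_mono (h.le B),
    fun B => h1 B ▸ (comap_mono (h.norm B)).trans (le_normalizer_comap _),
    fun h2 => comap_mono (h.anti h2), fun B B' hB => ?_⟩
  rw [h1]
  change (Δ B ⊓ Fx X B').subgroupOf U ≤ _
  rw [subgroupOf_le_iff, Subgroup.map_sup, subgroupOf_map_subtype, subgroupOf_map_subtype]
  exact (h.split (((h.inv B).inf (inv_Fx B')).inf hU) (inf_le_left.trans (h.bal B B' hB))).trans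
    (sup_le_sup (inf_le_inf_left _ inf_le_right) (inf_le_inf_left _ inf_le_right))

theorem quot {N : Subgroup X} [N.Normal] [MulDistribMulAction A (X ⧸ N)] (hN : Inv A N)
    (e : ∀ (a : A) (x : X), a • (x : X ⧸ N) = ((a • x : X) : X ⧸ N)) :
    (∀ B : Subgroup A, (Fx X B).map (QuotientGroup.mk' N) ≤ Fx (X ⧸ N) B) ∧
      Dat p (fun B => (Δ B).map (QuotientGroup.mk' N)) (D.map (QuotientGroup.mk' N)) := by
  have h1 : ∀ B : Subgroup A, (Fx X B).map (QuotientGroup.mk' N) ≤ Fx (X ⧸ N) B := by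
    rintro B _ ⟨x, hx, rfl⟩
    exact mem_Fx.2 fun b hb => (e b x).trans (congrArg _ (mem_Fx.1 hx b hb))
  have h2 : ∀ (B : Subgroup A) (U : Subgroup X), Inv A U → U.map (QuotientGroup.mk' N) ⊓
      Fx (X ⧸ N) B ≤ (U ⊓ Fx X B).map (QuotientGroup.mk' N) := by
    rintro B U hU _ ⟨⟨x, hx, rfl⟩, h3⟩
    obtain ⟨c, h4, h5⟩ := exists_fixed_of_coset ((hN.inf hU).subgroup B) (h.cop B _)
      (.inl inferInstance) x fun b => mem_inf.2 ⟨QuotientGroup.eq.1 ((e b x).symm.trans (h3 b)).symm,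
        mul_mem (inv_mem hx) (hU b x hx)⟩
    exact ⟨c, ⟨(mul_mem_cancel_left (inv_mem hx)).1 (mem_inf.1 h5).2, h4⟩,
      (QuotientGroup.eq.2 h5.1).symm⟩
  have h3 : ∀ B : Subgroup A, Fx (X ⧸ N) B ≤ (Fx X B).map (QuotientGroup.mk' N) := fun B => by
    have := h2 B ⊤ inv_top
    rwa [map_top_of_surjective _ (QuotientGroup.mk'_surjective N), top_inf_eq, top_inf_eq] at this
  exact ⟨h1, h.he, fun h2 => h.nd (h2.trans (card_quotient_dvd_card N)), h.hD.imp
    (fun h => by rw [h, Subgroup.map_bot]) fun h => by rw [h, (h1 _).antisymm (h3 _)],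
    fun B => (h.inv B).map e, fun B => (map_mono (h.le B)).trans (h1 B),
    fun B => (h3 B).trans ((map_mono (h.norm B)).trans (le_normalizer_map _)),
    fun h2 => map_mono (h.anti h2), fun B B' hB => (h2 B' _ (h.inv B)).trans
      ((map_mono (h.bal B B' hB)).trans (Subgroup.map_sup _ _ _).le)⟩

theorem conj_mem {H K : Subgroup A} {x y : X} (hx : x ∈ Fx X H) (hy : y ∈ Δ K) :
    x * y * x⁻¹ ∈ Δ (K ⊓ H) :=
  conj_mem_of_mem_normalizer (h.norm _ (Fx_anti inf_le_right hx)) (h.anti inf_le_left hy)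

variable (hY : YY p Δ ⊤ = ⊤)
include hY

theorem top_le {L : Subgroup X} (h1 : ∀ H : Subgroup A, H.index ∣ p → Δ H ≤ L) : ⊤ ≤ L :=
  hY.ge.trans (iSup_le fun H => inf_le_left.trans (h1 H.1 H.2))

theorem normal_St {M : Subgroup X} [hM : M.Normal] (h1 : Inv A M) : (YY p Δ M ⊔ D ⊓ M).Normal := by
  rw [← normalizer_eq_top_iff, eq_top_iff]
  refine h.top_le hY fun H hH => le_normalizer_iff_cj.2 fun g hg => ?_
  rw [cj_sup, YY, cj_iSup]
  refine sup_le (iSup_le fun K => cj_le_iff_forall.2 fun y hy => ?_) (cj_le_iff_forall.2 fun y hy => ?_)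
  · exact h.le_St ((h.inv _).inf h1) inf_le_right (fun H' _ => (inf_le_inf_right _ inf_le_left).trans
      (h.bal _ _ (index_inf_dvd_sq K.2 hH))) ⟨h.conj_mem (h.le H hg) hy.1, hM.conj_mem _ hy.2 g⟩
  · rw [← inv_mul_cancel_right (g * y * g⁻¹) y]
    refine mul_mem (mem_sup_left (le_YY hH M (mem_inf.2 ⟨?_,
      mul_mem (hM.conj_mem _ hy.2 g) (inv_mem (mem_inf.1 hy).2)⟩))) (mem_sup_right hy)
    rw [show g * y * g⁻¹ * y⁻¹ = g * (y * g⁻¹ * y⁻¹) by group]
    exact mul_mem hg (conj_mem_of_mem_normalizer (h.norm H (h.D_le H hy.1)) (inv_mem hg))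

variable (h0 : ∀ M : Subgroup X, M.Normal → Inv A M → M ≠ ⊤ → YY p Δ M ⊔ D ⊓ M = ⊥)
include h0

theorem inf_eq_bot {M : Subgroup X} [hM : M.Normal] (h1 : Inv A M) (h2 : M ≠ ⊤) {F : Subgroup A}
    (hF : F.index ∣ p ^ 2) : Δ F ⊓ M = ⊥ :=
  eq_bot_iff.2 (h0 M hM h1 h2 ▸ h.le_St ((h.inv _).inf h1) inf_le_right fun _ _ =>
    (inf_le_inf_right _ inf_le_left).trans (h.bal _ _ hF))

theorem comm_of_mem {M : Subgroup X} [hM : M.Normal] (h1 : Inv A M) (h2 : M ≠ ⊤) {H K : Subgroup A}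
    (hH : H.index ∣ p) (hK : K.index ∣ p) {x y : X} (hx : x ∈ Fx X H) (hy : y ∈ Δ K)
    (h3 : ⁅x, y⁆ ∈ M) : x * y = y * x :=
  commutatorElement_eq_one_iff_mul_comm.1 (mem_bot.1 (h.inf_eq_bot hY h0 h1 h2
    (index_inf_dvd_sq hK hH) ▸ mem_inf.2 ⟨mul_mem (h.conj_mem hx hy)
      (inv_mem (h.anti inf_le_left hy)), h3⟩))

theorem le_center {M : Subgroup X} [hM : M.Normal] (h1 : Inv A M) (h2 : M ≠ ⊤) : M ≤ center X := by
  rw [← centralizer_univ, ← coe_top, le_centralizer_iff]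
  refine h.top_le hY fun K hK => le_centralizer_iff.1 (h.gen h1 fun H hH x hx y hy => ?_)
  refine (h.comm_of_mem hY h0 h1 h2 hH hK hx.2 hy ?_).symm
  rw [commutatorElement_def, mul_assoc, mul_assoc, ← mul_assoc y, ← inv_inv y, inv_inv y⁻¹]
  exact mul_mem hx.1 (by simpa using hM.conj_mem _ (inv_mem (mem_inf.1 hx).1) y)

theorem of_comm (h1 : commutator X ≠ ⊤) {H : Subgroup A} : Fx X H ≤ Δ H ⊔ D := by
  have h2 : center X = ⊤ := by
    rw [← centralizer_univ, ← coe_top, eq_top_iff]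
    refine h.top_le hY fun K hK => le_centralizer_iff.1 (h.top_le hY fun H hH x hx y hy => ?_)
    exact (h.comm_of_mem hY h0 (inv_of_characteristic _) h1 hH hK (h.le H hx) hy
      (commutator_mem_commutator trivial trivial)).symm
  by_cases h3 : ∃ K : Subgroup A, K.index ∣ p ∧ Δ K = ⊤
  · obtain ⟨K, hK, h3⟩ := h3
    simpa [h3] using h.bal K H (hK.trans (dvd_pow_self p two_ne_zero))
  refine le_top.trans ((h.top_le hY fun K hK => ?_).trans bot_le)
  have : (Δ K).Normal := ⟨fun x hx g => by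
    rwa [mem_center_iff.1 (h2.ge (mem_top x)) g, mul_inv_cancel_right]⟩
  exact (inf_idem _).ge.trans (h.inf_eq_bot hY h0 (h.inv K) (fun h => h3 ⟨K, hK, h⟩)
    (hK.trans (dvd_pow_self p two_ne_zero))).le

end Dat

/-- The fixed points of a hyperplane in the subgroup generated by the `Δ(H)`. -/
theorem Dat.YY_inf_le {X : Type u} [Group X] [Finite X] : ∀ [MulDistribMulAction A X]
    {Δ : Subgroup A → Subgroup X} {D : Subgroup X}, Dat p Δ D → Group.IsSolvable X →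
      ∀ H : Subgroup A, H.index ∣ p → YY p Δ ⊤ ⊓ Fx X H ≤ Δ H ⊔ D := by
  refine Grp.card_induction (P := fun X _ _ => ∀ [MulDistribMulAction A X]
    {Δ : Subgroup A → Subgroup X} {D : Subgroup X}, Dat p Δ D → Group.IsSolvable X →
      ∀ H : Subgroup A, H.index ∣ p → YY p Δ ⊤ ⊓ Fx X H ≤ Δ H ⊔ D) ?_ X
  intro X _ _ ih _ Δ D h hK H hH
  have hs : ∀ U : Subgroup X, Inv A U → U ≠ ⊤ → ∀ H : Subgroup A, H.index ∣ p →
      YY p Δ U ⊓ Fx X H ≤ Δ H ⊔ D := fun U hU h1 H hH => by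
    obtain ⟨_, e⟩ := exists_subAction hU
    obtain ⟨h2, h3⟩ := h.sub hU e
    have h4 := map_mono (f := U.subtype) (ih U (Grp.card_lt_of_ne_top h1) h3
      inferInstance H hH)
    rw [map_inf _ _ _ U.subtype_injective, h2, YY, Subgroup.map_iSup, Subgroup.map_sup] at h4
    simp only [inf_top_eq, subgroupOf_map_subtype] at h4
    exact (le_inf inf_le_left (le_inf inf_le_right (inf_le_left.trans
      (iSup_le fun _ => inf_le_right)))).trans (h4.trans (sup_le_sup inf_le_left inf_le_left))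
  by_cases hY : YY p Δ ⊤ = ⊤
  swap
  · refine le_trans (inf_le_inf_right _ (iSup_mono fun K => le_inf inf_le_left (le_YY K.2 ⊤)))
      (hs _ (inv_iSup fun K : {H : Subgroup A // H.index ∣ p} => (h.inv K.1).inf inv_top) hY H hH)
  have hq : ∀ N : Subgroup X, N.Normal → Inv A N → N ≠ ⊥ → ∀ H : Subgroup A, H.index ∣ p →
      Fx X H ≤ Δ H ⊔ D ⊔ N := fun N _ hN h1 H hH => by
    obtain ⟨_, e⟩ := exists_quotAction hN
    obtain ⟨h2, h3⟩ := h.quot hN e
    have h4 := ih _ (Grp.card_quotient_lt N h1) h3 inferInstance H hH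
    rw [← Subgroup.map_sup] at h4
    rw [sup_comm _ N, ← QuotientGroup.comap_map_mk', ← map_le_iff_le_comap]
    refine (le_inf ((map_mono (le_top.trans hY.ge)).trans ?_) (h2 H)).trans h4
    rw [YY, Subgroup.map_iSup]
    exact iSup_mono fun K => le_inf (map_mono inf_le_left) le_top
  refine inf_le_right.trans ?_
  by_cases h0 : ∀ M : Subgroup X, M.Normal → Inv A M → M ≠ ⊤ → YY p Δ M ⊔ D ⊓ M = ⊥
  · by_cases h1 : commutator X = ⊤
    · rcases subsingleton_or_nontrivial X with _ | _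
      · exact (Subsingleton.elim _ _).le
      exact absurd h1 (Grp.commutator_lt_of_isSolvable top_ne_bot).ne
    · exact h.of_comm hY h0 h1
  push Not at h0
  obtain ⟨M, _, h1, h2, h3⟩ := h0
  have := h.normal_St hY h1
  refine (le_inf (hq _ this (h.inv_St h1) h3 H hH) le_rfl).trans ?_
  rw [sup_inf_of_le_normalizer (sup_le (h.le H) (h.D_le H))
    (le_top.trans (normalizer_eq_top (YY p Δ M ⊔ D ⊓ M)).ge)]
  exact sup_le le_rfl (h.St_inf (hs M h1 h2 H hH))

/-- Ambient form of `Dat.YY_inf_le`. -/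
theorem iSup_inf_cent_le {G : Type*} [Group G] [Finite G] {A O D : Subgroup G}
    (hA : IsElementaryAbelian p A) (hO : A ≤ 𝐍[O]) (nd : ¬ p ∣ Nat.card O) (hK : Group.IsSolvable O)
    {Δ : Subgroup G → Subgroup G} (hD : D = ⊥ ∨ D = O ⊓ 𝐂[A]) (inv : ∀ B ≤ A, A ≤ 𝐍[Δ B])
    (le : ∀ B ≤ A, Δ B ≤ O ⊓ 𝐂[B]) (norm : ∀ B ≤ A, O ⊓ 𝐂[B] ≤ 𝐍[Δ B])
    (anti : ∀ B B', B ≤ B' → Δ B' ≤ Δ B)
    (bal : ∀ B ≤ A, ∀ B' ≤ A, B.relIndex A ∣ p ^ 2 → Δ B ⊓ 𝐂[B'] ≤ Δ B' ⊔ D)
    {H : Subgroup G} (h1 : H ≤ A) (h2 : H.relIndex A ∣ p) :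
    (⨆ K : {K : Subgroup G // K ≤ A ∧ K.relIndex A ∣ p}, Δ K) ⊓ 𝐂[H] ≤ Δ H ⊔ D := by
  obtain ⟨_, e⟩ := exists_conjAct hO
  have := hA.1
  have hF : ∀ B : Subgroup A, Fx O B = 𝐂[B.map A.subtype].subgroupOf O := fun B =>
    Subgroup.ext fun x => by
      simp only [mem_Fx, Subtype.ext_iff, e, mul_inv_eq_iff_eq_mul, mem_subgroupOf,
        mem_centralizer_iff, SetLike.mem_coe, mem_map, forall_exists_index, and_imp,
        forall_apply_eq_imp_iff₂, coe_subtype]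
  have hm : ∀ B : Subgroup A, B.map A.subtype ≤ A := map_subtype_le
  have hDO : D ≤ O := by
    rcases hD with rfl | rfl
    exacts [bot_le, inf_le_left]
  have hle : ∀ B ≤ A, Δ B ≤ O := fun B hB => (le B hB).trans inf_le_left
  have h : Dat p (fun B : Subgroup A => (Δ (B.map A.subtype)).subgroupOf O) (D.subgroupOf O) := by
    refine ⟨fun a => Subtype.ext (hA.2 a a.2), nd, hD.imp (fun h => by rw [h, bot_subgroupOf])
      fun h => by rw [h, hF, ← MonoidHom.range_eq_map, range_subtype, inf_subgroupOf_left],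
      fun B a x hx => ?_, fun B => hF B ▸ comap_mono ((le _ (hm B)).trans inf_le_right),
      fun B x hx => le_normalizer_comap _ (norm _ (hm B) ⟨x.2, (hF B).le hx⟩),
      fun h => comap_mono (anti _ _ (map_mono h)), fun B B' hB => ?_⟩
    · exact mem_subgroupOf.2 (e a x ▸ conj_mem_of_mem_normalizer (inv _ (hm B) a.2) hx)
    · rw [hF]
      change (Δ _ ⊓ 𝐂[B'.map A.subtype]).subgroupOf O ≤ _
      rw [subgroupOf_le_iff, Subgroup.map_sup, map_subgroupOf_of_le (hle _ (hm _)),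
        map_subgroupOf_of_le hDO]
      exact inf_le_left.trans (bal _ (hm B) _ (hm B') (by rwa [relIndex, map_subtype_subgroupOf]))
  have h3 := map_mono (f := O.subtype) (h.YY_inf_le hK (H.subgroupOf A) h2)
  rw [map_inf _ _ _ O.subtype_injective, hF, YY, Subgroup.map_iSup, Subgroup.map_sup,
    map_subgroupOf_of_le h1, map_subgroupOf_of_le (hle _ h1), map_subgroupOf_of_le hDO,
    subgroupOf_map_subtype] at h3
  refine (le_inf (inf_le_left.trans (iSup_le fun K => ?_)) (le_inf inf_le_right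
    (inf_le_left.trans (iSup_le fun K => hle _ K.2.1)))).trans h3
  refine le_iSup_of_le ⟨K.1.subgroupOf A, K.2.2⟩ ?_
  rw [inf_top_eq, map_subgroupOf_of_le K.2.1, map_subgroupOf_of_le (hle _ K.2.1)]

end Cfsg.Agent.SigS
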