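import Mathlib
import Cfsg.Agent.SigS.Bal

/-!
The `k`-balanced and weakly `k`-balanced functors are signalizer functors (solvable cores).
-/

set_option autoImplicit false
set_option linter.unusedSectionVars false

namespace Cfsg.Agent.SigS

open Cfsg Subgroup Cfsg.Agent.K Cfsg.Agent.PLocal Cfsg.Agent.PLocal.Amb
open scoped commutatorElement

variable {G : Type*} [Group G] [Finite G] {p : ℕ} [hp : Fact p.Prime] {k : ℕ} {A : Subgroup G}

theorem isSF_sup (hK : ∀ a ∈ A, a ≠ 1 → Group.IsSolvable (centralizerPPrimeCore p a)) (hk : 1 ≤ k)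
    (hA : IsElementaryAbelian p A) (hAk : p ^ (k + 2) ≤ Nat.card A) {D : Subgroup G}
    (hD : D = ⊥ ∨ D = centralizerSubgroupPPrimeCore p A)
    (bal : ∀ B ≤ A, p ^ k ≤ Nat.card B → ∀ B' ≤ A,
      signalizerDelta p B ⊓ 𝐂[B'] ≤ signalizerDelta p B' ⊔ D ⊓ signalizerDelta p B) :
    IsSignalizerFunctor p A fun a => kBalancedTheta p k A a ⊔ D := by
  have hA1 : A ≠ ⊥ := Sig.ne_bot_of_pow_le hAk
  have hDC : D ≤ 𝐂[A] := by
    rcases hD with rfl | rfl
    exacts [bot_le, map_subtype_le _]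
  have hDn : 𝐂[A] ≤ 𝐍[D] := by
    rcases hD with rfl | rfl
    exacts [by rw [normalizer_eq_top]; exact le_top, le_normalizer_map_subtype _]
  have hDp : ¬ p ∣ Nat.card D := by
    rcases hD with rfl | rfl
    · simpa using hp.out.ne_one
    · rw [centralizerSubgroupPPrimeCore, card_subtype]
      exact hp.out.coprime_iff_not_dvd.1 (Grp.pPrimeCore_coprime p _).symm
  have hCa : ∀ a ∈ A, 𝐂[A] ≤ centralizer {a} := fun a ha => centralizer_le (by simpa using ha)
  have hn : ∀ B ≤ A, 𝐂[A] ≤ 𝐍[signalizerDelta p B] := fun B hB =>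
    (centralizer_anti hB).trans (cent_le_norm_delta B)
  have hAC : A ≤ 𝐂[A] := Sig.ea_le_cent hA le_rfl
  have hs : ∀ {B : Subgroup G} {a : G}, B ≤ A → a ∈ A → B ⊔ zpowers a ≤ A := fun h1 h2 =>
    sup_le h1 (zpowers_le.2 h2)
  let Y : G → Subgroup G := fun a =>
    ⨆ K : {K : Subgroup G // K ≤ A ∧ K.relIndex A ∣ p}, signalizerDelta p (K ⊔ zpowers a)
  have hO : ∀ {a : G}, a ≠ 1 → ∀ B : Subgroup G, signalizerDelta p (B ⊔ zpowers a) ≤
      centralizerPPrimeCore p a := fun h B => signalizerDelta_le (mem_sup_right (mem_zpowers _)) h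
  have hYn : ∀ a ∈ A, 𝐂[A] ≤ 𝐍[Y a] := fun a ha => le_normalizer_iff_cj.2 fun g hg => by
    rw [cj_iSup]
    exact iSup_mono fun K => (cj_of_mem_normalizer (hn _ (hs K.2.1 ha) hg)).le
  have hY : ∀ a ∈ A, kBalancedTheta p k A a ⊔ D ≤ D ⊔ Y a := fun a ha => by
    refine sup_le (iSup_le fun B => Sig.le_of_hyp_le hA hA1 (le_normalizer_inf (hAC.trans (hn _ B.2.1))
      (Sig.ea_norm_cent1 hA ha)) (Sig.not_dvd_of_le inf_le_left (not_dvd_delta (Sig.ne_bot_of_pow_le
        (k := 0) ((Nat.pow_le_pow_right hp.out.pos hk).trans B.2.2.2)))) fun H hH => ?_) le_sup_left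
    refine le_trans ?_ ((bal _ B.2.1 B.2.2.2 _ (hs hH.1 ha)).trans (sup_le
      (le_sup_of_le_right (le_iSup_of_le ⟨H, hH.1, hH.2.dvd⟩ le_rfl)) (le_sup_of_le_left inf_le_left)))
    rw [Amb.centralizer_sup, Amb.centralizer_zpowers, inf_assoc, inf_comm (centralizer {a})]
  have hYO : ∀ {a : G}, a ≠ 1 → Y a ≤ centralizerPPrimeCore p a := fun h => iSup_le fun K => hO h _
  refine ⟨fun a ha h1 => sup_le (iSup_le fun _ => inf_le_right) (hDC.trans (hCa a ha)),
    fun a ha h1 => Sig.not_dvd_of_le ((hY a ha).trans (sup_le_sup_left (hYO h1) _))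
      (Sig.not_dvd_sup ((hDC.trans (hCa a ha)).trans
        (centralizer_le_normalizer_centralizerPPrimeCore a)) hDp (not_dvd_core a)),
    fun a ha h1 b hb x => conj_mem_of_mem_normalizer (le_normalizer_sup
      (le_normalizer_iff_cj.2 fun g hg => ?_) (hAC.trans hDn) hb), fun a ha h1 b hb h2 => ?_⟩
  · rw [kBalancedTheta, cj_iSup]
    exact iSup_mono fun B => (cj_of_mem_normalizer (le_normalizer_inf (hAC.trans (hn _ B.2.1))
      (Sig.ea_norm_cent1 hA ha) hg)).le
  refine (inf_le_inf_right _ (hY a ha)).trans ?_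
  rw [sup_inf_of_le_normalizer (hDC.trans (hCa b hb)) (hDC.trans (hYn a ha))]
  refine sup_le le_sup_right (Sig.le_of_hyp_le hA hA1 (le_normalizer_inf (hAC.trans (hYn a ha))
    (Sig.ea_norm_cent1 hA hb)) (Sig.not_dvd_of_le (inf_le_left.trans (hYO h1)) (not_dvd_core a))
    fun H hH => ?_)
  have hOn := (hCa a ha).trans (centralizer_le_normalizer_centralizerPPrimeCore (p := p) a)
  have hr : ∀ {B : Subgroup G} (c : G) {n : ℕ}, B.relIndex A ∣ n → (B ⊔ zpowers c).relIndex A ∣ n :=
    fun c _ h => (relIndex_dvd_of_le_left A le_sup_left).trans h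
  have key := SigS.iSup_inf_cent_le (D := D ⊓ centralizerPPrimeCore p a) hA (hAC.trans hOn) (not_dvd_core a)
    (hK a ha h1) (Δ := fun B => signalizerDelta p (B ⊔ zpowers a))
    (hD.imp (fun h => by rw [h, bot_inf_eq]) fun h => le_antisymm
      (le_inf inf_le_right (inf_le_left.trans hDC))
      (le_inf ((inf_cent_le_core (not_dvd_core a) hOn).trans h.ge) inf_le_left))
    (fun B hB => hAC.trans (hn _ (hs hB ha))) (fun B hB => le_inf (hO h1 B)
      ((delta_le_cent _).trans (centralizer_anti le_sup_left))) (fun B _ => le_trans (by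
      rw [Amb.centralizer_sup, Amb.centralizer_zpowers]
      exact le_inf inf_le_right (inf_le_left.trans (centralizerPPrimeCore_le a)))
      (cent_le_norm_delta _))
    (fun B B' h => signalizerDelta_anti (sup_le_sup_right h _)) (fun B hB B' hB' h => by
      refine le_trans ?_ ((bal _ (hs hB ha) (pow_le_of_relIndex hAk (hs hB ha) (hr a h)) _
        (hs hB' ha)).trans (sup_le_sup_left (inf_le_inf_left _ (hO h1 B)) _))
      rw [Amb.centralizer_sup, Amb.centralizer_zpowers]
      exact le_inf inf_le_left (le_inf inf_le_right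
        (inf_le_left.trans ((hO h1 B).trans (centralizerPPrimeCore_le a)))))
    (hs hH.1 hb) (hr b hH.2.dvd)
  rw [Amb.centralizer_sup, Amb.centralizer_zpowers, inf_comm _ (centralizer {b}), ← inf_assoc] at key
  refine key.trans (sup_le_sup (le_trans (le_inf le_rfl ?_) (le_theta hA (hs (hs hH.1 hb) ha)
    (pow_le_of_relIndex hAk (hs (hs hH.1 hb) ha) (hr a (hr b (hH.2.dvd.trans
      (dvd_pow_self p two_ne_zero))))) b)) inf_le_left)
  exact (signalizerDelta_le (mem_sup_left (mem_sup_right (mem_zpowers b))) h2).trans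
    (centralizerPPrimeCore_le b)

theorem exists_le_card_eq {B : Subgroup G} (hB : IsElementaryAbelian p B) (h : p ^ k ≤ Nat.card B) :
    ∃ D ≤ B, Nat.card D = p ^ k := by
  obtain ⟨D, h1⟩ := Sylow.exists_subgroup_card_pow_prime_of_le_card hp.out (isEA_isPGroup hB) h
  exact ⟨D.map B.subtype, map_subtype_le _, by rw [card_subtype, h1]⟩

theorem isKBalancedWrt_of_isKBalanced (hbal : IsKBalanced p k G) (hA : IsElementaryAbelian p A) :
    IsKBalancedWrt p k A := by
  intro B hB hBe hBk a ha h1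
  obtain ⟨D, hD, hc⟩ := exists_le_card_eq hBe hBk
  refine (inf_le_inf_right _ (signalizerDelta_anti hD)).trans
    (hbal D (isElementaryAbelian_of_le hBe hD) hc a (orderOf_eq_prime (hA.2 a ha) h1) fun d hd => ?_)
  exact (Sig.ea_le_cent hA le_rfl ha d (hB (hD hd)))

theorem kBalancedTheta_eq (hA : IsElementaryAbelian p A) (a : G) :
    kBalancedTheta p k A a = ⨆ D : {D : Subgroup G // D ≤ A ∧ Nat.card ↥D = p ^ k},
      signalizerDelta p (D : Subgroup G) ⊓ Subgroup.centralizer {a} := by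
  refine le_antisymm (iSup_le fun B => ?_) (iSup_le fun D => le_theta hA D.2.1 D.2.2.ge a)
  obtain ⟨D, hD, hc⟩ := exists_le_card_eq B.2.2.1 B.2.2.2
  exact le_iSup_of_le ⟨D, hD.trans B.2.1, hc⟩ (inf_le_inf_right _ (signalizerDelta_anti hD))

end Cfsg.Agent.SigS
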